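import Cfsg.Agent.Lib.CosetEnum.LyG2.P.Data

/-! Generated certificate. -/

set_option autoImplicit false
set_option maxRecDepth 20000

namespace Cfsg.Lib.CosetEnum.LyG2.P

theorem steps_16 : Signed.stepsOKS 6 relWords subWords tabF tabC 20215 1500 24000 = true := by decide +kernel

theorem steps_17 : Signed.stepsOKS 6 relWords subWords tabF tabC 20215 1500 25500 = true := by decide +kernel

theorem steps_18 : Signed.stepsOKS 6 relWords subWords tabF tabC 20215 1500 27000 = true := by decide +kernel

theorem steps_19 : Signed.stepsOKS 6 relWords subWords tabF tabC 20215 1500 28500 = true := by decide +kernel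

theorem steps_20 : Signed.stepsOKS 6 relWords subWords tabF tabC 20215 1500 30000 = true := by decide +kernel

theorem steps_21 : Signed.stepsOKS 6 relWords subWords tabF tabC 20215 1500 31500 = true := by decide +kernel

theorem steps_22 : Signed.stepsOKS 6 relWords subWords tabF tabC 20215 1500 33000 = true := by decide +kernel

theorem steps_23 : Signed.stepsOKS 6 relWords subWords tabF tabC 20215 1500 34500 = true := by decide +kernel

end Cfsg.Lib.CosetEnum.LyG2.P
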