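import Cfsg.Agent.Lib.CosetEnum.LyG2.P.Data

/-! Generated certificate. -/

set_option autoImplicit false
set_option maxRecDepth 20000

namespace Cfsg.Lib.CosetEnum.LyG2.P

theorem steps_24 : Signed.stepsOKS 6 relWords subWords tabF tabC 20215 1500 36000 = true := by decide +kernel

theorem steps_25 : Signed.stepsOKS 6 relWords subWords tabF tabC 20215 1500 37500 = true := by decide +kernel

theorem steps_26 : Signed.stepsOKS 6 relWords subWords tabF tabC 20215 1500 39000 = true := by decide +kernel

theorem steps_27 : Signed.stepsOKS 6 relWords subWords tabF tabC 20215 1500 40500 = true := by decide +kernel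

theorem steps_28 : Signed.stepsOKS 6 relWords subWords tabF tabC 20215 1500 42000 = true := by decide +kernel

theorem steps_29 : Signed.stepsOKS 6 relWords subWords tabF tabC 20215 1500 43500 = true := by decide +kernel

theorem steps_30 : Signed.stepsOKS 6 relWords subWords tabF tabC 20215 1500 45000 = true := by decide +kernel

theorem steps_31 : Signed.stepsOKS 6 relWords subWords tabF tabC 20215 1500 46500 = true := by decide +kernel

end Cfsg.Lib.CosetEnum.LyG2.P
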