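import Cfsg.Agent.Lib.CosetEnum.LyG2.P.DefsPart0
import Cfsg.Agent.Lib.CosetEnum.LyG2.P.LabsPart0
import Cfsg.Agent.Lib.CosetEnum.LyG2.P.StepsPart0
import Cfsg.Agent.Lib.CosetEnum.LyG2.P.StepsPart1
import Cfsg.Agent.Lib.CosetEnum.LyG2.P.StepsPart2
import Cfsg.Agent.Lib.CosetEnum.LyG2.P.StepsPart3
import Cfsg.Agent.Lib.CosetEnum.LyG2.P.StepsPart4
import Cfsg.Agent.Lib.CosetEnum.LyG2.P.StepsPart5
import Cfsg.Agent.Lib.CosetEnum.LyG2.P.ClosedPart0

/-! Generated certificate. -/

set_option autoImplicit false
set_option maxRecDepth 20000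

namespace Cfsg.Lib.CosetEnum.LyG2.P

theorem step_valid : step.Valid where
  pos := by decide +kernel
  defs := (defsOK_append (a := 12000) (b := 8215) (defsOK_append (a := 6000) (b := 6000) defs_0 defs_1) (defsOK_append (a := 6000) (b := 2215) defs_2 defs_3))
  labs := (Signed.labsOK_append (a := 12000) (b := 8215) (Signed.labsOK_append (a := 6000) (b := 6000) labs_0 labs_1) (Signed.labsOK_append (a := 6000) (b := 2215) labs_2 labs_3))
  steps := (Signed.stepsOKS_append (m := 33000) (n := 32717) (Signed.stepsOKS_append (m := 16500) (n := 16500) (Signed.stepsOKS_append (m := 7500) (n := 9000) (Signed.stepsOKS_append (m := 3000) (n := 4500) (Signed.stepsOKS_append (m := 1500) (n := 1500) steps_0 steps_1) (Signed.stepsOKS_append (m := 1500) (n := 3000) steps_2 (Signed.stepsOKS_append (m := 1500) (n := 1500) steps_3 steps_4))) (Signed.stepsOKS_append (m := 4500) (n := 4500) (Signed.stepsOKS_append (m := 1500) (n := 3000) steps_5 (Signed.stepsOKS_append (m := 1500) (n := 1500) steps_6 steps_7)) (Signed.stepsOKS_append (m := 1500) (n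 := 3000) steps_8 (Signed.stepsOKS_append (m := 1500) (n := 1500) steps_9 steps_10)))) (Signed.stepsOKS_append (m := 7500) (n := 9000) (Signed.stepsOKS_append (m := 3000) (n := 4500) (Signed.stepsOKS_append (m := 1500) (n := 1500) steps_11 steps_12) (Signed.stepsOKS_append (m := 1500) (n := 3000) steps_13 (Signed.stepsOKS_append (m := 1500) (n := 1500) steps_14 steps_15))) (Signed.stepsOKS_append (m := 4500) (n := 4500) (Signed.stepsOKS_append (m := 1500) (n := 3000) steps_16 (Signed.stepsOKS_append (m := 1500) (n := 1500) steps_17 steps_18)) (Signed.stepsOKS_append (m := 1500) (n := 3000) steps_19 (Signed.stepsOKS_append (m := 1500) (n := 1500) steps_20 steps_21))))) (Signed.stepsOKS_append (m := 16500) (n := 16217) (Signed.stepsOKS_append (m := 7500) (n := 9000) (Signed.stepsOKS_append (m := 3000) (n := 4500) (Signed.stepsOKS_append (m := 1500) (n := 1500) steps_22 steps_23) (Signed.stepsOKS_append (m := 1500) (n := 3000) steps_24 (Signed.stepsOKS_append (m := 1500) (n := 1500) steps_25 steps_26))) (Signed.stepsOKS_append (m :=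 4500) (n := 4500) (Signed.stepsOKS_append (m := 1500) (n := 3000) steps_27 (Signed.stepsOKS_append (m := 1500) (n := 1500) steps_28 steps_29)) (Signed.stepsOKS_append (m := 1500) (n := 3000) steps_30 (Signed.stepsOKS_append (m := 1500) (n := 1500) steps_31 steps_32)))) (Signed.stepsOKS_append (m := 7500) (n := 8717) (Signed.stepsOKS_append (m := 3000) (n := 4500) (Signed.stepsOKS_append (m := 1500) (n := 1500) steps_33 steps_34) (Signed.stepsOKS_append (m := 1500) (n := 3000) steps_35 (Signed.stepsOKS_append (m := 1500) (n := 1500) steps_36 steps_37))) (Signed.stepsOKS_append (m := 4500) (n := 4217) (Signed.stepsOKS_append (m := 1500) (n := 3000) steps_38 (Signed.stepsOKS_append (m := 1500) (n := 1500) steps_39 steps_40)) (Signed.stepsOKS_append (m := 1500) (n := 2717) steps_41 (Signed.stepsOKS_append (m := 1500) (n := 1217) steps_42 steps_43))))))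
  closed := (Signed.closedOKS_append (a := 1500) (b := 1625) closed_0 (Signed.closedOKS_append (a := 1500) (b := 125) closed_1 closed_2))

end Cfsg.Lib.CosetEnum.LyG2.P
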