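import Cfsg.Agent.Lib.CosetEnum.Signed.Defs
import Cfsg.Agent.Lib.CosetEnum.LyG2.P.TabF_Data0
import Cfsg.Agent.Lib.CosetEnum.LyG2.P.TabF_Data1
import Cfsg.Agent.Lib.CosetEnum.LyG2.P.TabF_Data2
import Cfsg.Agent.Lib.CosetEnum.LyG2.P.TabF_Data3
import Cfsg.Agent.Lib.CosetEnum.LyG2.P.TabF_Data4
import Cfsg.Agent.Lib.CosetEnum.LyG2.P.TabF_Data5
import Cfsg.Agent.Lib.CosetEnum.LyG2.P.TabC_Data0
import Cfsg.Agent.Lib.CosetEnum.LyG2.P.TabC_Data1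
import Cfsg.Agent.Lib.CosetEnum.LyG2.P.TabC_Data2
import Cfsg.Agent.Lib.CosetEnum.LyG2.P.TabC_Data3
import Cfsg.Agent.Lib.CosetEnum.LyG2.P.TabC_Data4
import Cfsg.Agent.Lib.CosetEnum.LyG2.P.TabC_Data5
import Cfsg.Agent.Lib.CosetEnum.LyG2.P.TabC_Data6
import Cfsg.Agent.Lib.CosetEnum.LyG2.P.TabC_Data7
import Cfsg.Agent.Lib.CosetEnum.LyG2.P.TabC_Data8
import Cfsg.Agent.Lib.CosetEnum.LyG2.P.TabC_Data9
import Cfsg.Agent.Lib.CosetEnum.LyG2.P.TabC_Data10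
import Cfsg.Agent.Lib.CosetEnum.LyG2.P.TabC_Data11
import Cfsg.Agent.Lib.CosetEnum.LyG2.P.TabC_Data12
import Cfsg.Agent.Lib.CosetEnum.LyG2.P.TabC_Data13
import Cfsg.Agent.Lib.CosetEnum.LyG2.P.TabC_Data14
import Cfsg.Agent.Lib.CosetEnum.LyG2.P.TabC_Data15
import Cfsg.Agent.Lib.CosetEnum.LyG2.P.TabC_Data16
import Cfsg.Agent.Lib.CosetEnum.LyG2.P.TabC_Data17
import Cfsg.Agent.Lib.CosetEnum.LyG2.P.TabC_Data18
import Cfsg.Agent.Lib.CosetEnum.LyG2.P.TabC_Data19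
import Cfsg.Agent.Lib.CosetEnum.LyG2.P.TabC_Data20
import Cfsg.Agent.Lib.CosetEnum.LyG2.P.TabC_Data21
import Cfsg.Agent.Lib.CosetEnum.LyG2.P.TabC_Data22
import Cfsg.Agent.Lib.CosetEnum.LyG2.P.TabC_Data23
import Cfsg.Agent.Lib.CosetEnum.LyG2.P.TabC_Data24
import Cfsg.Agent.Lib.CosetEnum.LyG2.P.TabC_Data25
import Cfsg.Agent.Lib.CosetEnum.LyG2.P.TabC_Data26
import Cfsg.Agent.Lib.CosetEnum.LyG2.P.TabC_Data27
import Cfsg.Agent.Lib.CosetEnum.LyG2.P.TabC_Data28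
import Cfsg.Agent.Lib.CosetEnum.LyG2.P.TabC_Data29
import Cfsg.Agent.Lib.CosetEnum.LyG2.P.TabC_Data30
import Cfsg.Agent.Lib.CosetEnum.LyG2.P.TabC_Data31
import Cfsg.Agent.Lib.CosetEnum.LyG2.P.TabC_Data32
import Cfsg.Agent.Lib.CosetEnum.LyG2.P.TabZ_Data0
import Cfsg.Agent.Lib.CosetEnum.LyG2.P.TabZ_Data1
import Cfsg.Agent.Lib.CosetEnum.LyG2.P.TabZ_Data2
import Cfsg.Agent.Lib.CosetEnum.LyG2.P.TabP_Data0
import Cfsg.Agent.Lib.CosetEnum.LyG2.P.TabP_Data1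
import Cfsg.Agent.Lib.CosetEnum.LyG2.P.TabP_Data2

/-! Generated certificate. -/

set_option autoImplicit false
set_option maxRecDepth 20000

namespace Cfsg.Lib.CosetEnum.LyG2.P

/-- Table. -/
def tabF : Tab :=
  (.node 1024 (.node 512 (.node 256 tabF_0 tabF_1) (.node 256 tabF_2 tabF_3)) (.node 256 tabF_4 tabF_5))

/-- Table. -/
def tabC : Tab :=
  (.node 65536 (.node 32768 (.node 16384 (.node 8192 (.node 4096 (.node 2048 tabC_0 tabC_1) (.node 2048 tabC_2 tabC_3)) (.node 4096 (.node 2048 tabC_4 tabC_5) (.node 2048 tabC_6 tabC_7))) (.node 8192 (.node 4096 (.node 2048 tabC_8 tabC_9) (.node 2048 tabC_10 tabC_11)) (.node 4096 (.node 2048 tabC_12 tabC_13) (.node 2048 tabC_14 tabC_15)))) (.node 16384 (.node 8192 (.node 4096 (.node 2048 tabC_16 tabC_17) (.node 2048 tabC_18 tabC_19)) (.node 4096 (.node 2048 tabC_20 tabC_21) (.node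 2048 tabC_22 tabC_23))) (.node 8192 (.node 4096 (.node 2048 tabC_24 tabC_25) (.node 2048 tabC_26 tabC_27)) (.node 4096 (.node 2048 tabC_28 tabC_29) (.node 2048 tabC_30 tabC_31))))) tabC_32)

/-- Table. -/
def tabZ : Tab :=
  (.node 512 (.node 256 tabZ_0 tabZ_1) tabZ_2)

/-- Table. -/
def tabP : Tab :=
  (.node 512 (.node 256 tabP_0 tabP_1) tabP_2)

/-- The shifts in use. -/
def relWords : List (List Nat) :=
  [[8, 11, 2, 5],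
    [7, 5, 1, 11],
    [1, 1, 1, 1, 1],
    [2, 2, 2, 2, 2],
    [5, 5, 5, 5, 5],
    [6, 5, 0, 11, 11],
    [6, 6, 7, 0, 0, 1],
    [6, 6, 2, 0, 0, 2, 2],
    [0, 0, 0, 0, 0, 0, 0, 0],
    [0, 1, 0, 1, 0, 1, 0, 1],
    [6, 8, 0, 11, 6, 2, 0, 5],
    [7, 8, 1, 11, 7, 2, 1, 5],
    [1, 8, 7, 11, 1, 2, 7, 5],
    [5, 6, 8, 0, 8, 6, 2, 0, 2],
    [8, 7, 8, 1, 2, 7, 2, 1, 5, 5],
    [8, 1, 8, 7, 2, 1, 2, 7, 11, 11],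
    [6, 7, 0, 1, 6, 7, 0, 1, 6, 7, 0, 1],
    [6, 8, 0, 1, 8, 7, 6, 2, 0, 1, 2, 7],
    [7, 7, 2, 1, 2, 2, 1, 1, 8, 7, 8, 8],
    [6, 8, 0, 7, 8, 1, 6, 2, 0, 7, 2, 1, 5],
    [7, 8, 1, 1, 8, 7, 7, 2, 1, 1, 2, 7, 5],
    [6, 7, 2, 1, 0, 1, 8, 7, 8, 7, 2, 2, 1],
    [7, 6, 2, 0, 1, 1, 2, 7, 2, 1, 2, 7, 7, 8, 1, 6, 8, 0],
    [6, 1, 2, 7, 0, 1, 8, 7, 8, 1, 8, 7, 7, 2, 1, 6, 2, 0, 8],
    [0, 6],
    [1, 7],
    [2, 8],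
    [5, 11],
    [6, 0],
    [7, 1],
    [8, 2],
    [11, 5],
    []]

/-- Subgroup words. -/
def subWords : List (List Nat) :=
  [[0],
    [1]]

/-- The certificate. -/
def step : Signed.Cert :=
  ⟨relWords, subWords, [0, 1, 2, 5, 6, 7, 8, 11], tabF, tabC, tabZ, tabP, 20215, 65717, 3125, 6⟩

end Cfsg.Lib.CosetEnum.LyG2.P
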